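import Groth.Agent.GenusOneGrp.Main
import Groth.Agent.AVOmega.Basic
import Groth.Agent.CurveOmega.General
import Groth.Agent.Rigid.FibreTranslate
import Groth.Agent.S7785

/-!
Smooth proper curves with a point: genus one iff group scheme with that unit.
-/

set_option autoImplicit false
set_option backward.isDefEq.respectTransparency false
set_option backward.isDefEq.respectTransparency.types false
set_option linter.style.haveILetI false
set_option linter.unusedSectionVars false
set_option maxHeartbeats 2000000

universe u

open CategoryTheory CategoryTheory.Limits AlgebraicGeometry TopologicalSpace Opposite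
open scoped MonObj

noncomputable section

namespace Groth.Agent.GenusOneGrp

variable {k : Type u} [Field k]

/-- A curve of genus one with a point is a commutative group with that point as origin. -/
theorem exists_grpObj (C : Over (Spec (CommRingCat.of k))) [IsProper C.hom] [Smooth C.hom]
    [GeometricallyConnected C.hom]
    (hd : topologicalKrullDim C.left = 1)
    (hg : letI : C.left.Over (Spec (CommRingCat.of k)) := ⟨C.hom⟩; Curv2.genus k C.left = 1)
    (P₀ : MonoidalCategoryStruct.tensorUnit (Over (Spec (CommRingCat.of k))) ⟶ C) :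
    ∃ G : GrpObj C, @MonObj.one _ _ _ C G.toMonObj = P₀ ∧ @IsCommMonObj _ _ _ _ C G.toMonObj := by
  haveI := ClosedRep.GeomIntegral.geometricallyIntegral_of_smooth C.hom
  haveI : IsIntegral C.left := GeometricallyIntegral.isIntegral_of_subsingleton C.hom
  obtain ⟨A, G, e, hp, hs, hi, he⟩ := exists_iso_abelian C hd hg P₀
  letI := G
  letI H : GrpObj C := GrpObj.ofIso e
  refine ⟨H, he, ?_⟩
  exact Groth.Agent.S7785.result C

theorem h_freeMod_one (X : Scheme.{u}) [X.Over (Spec (CommRingCat.of k))] (i : ℕ) :
    CurveRR.h k (FlatMod.freeMod X 1) i = CurveRR.h k (Coh.structureModule X) i :=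
  CurveRR.h_eq_of_iso (coproductUniqueIso fun _ : Fin 1 => Coh.structureModule X) i

/-- A one dimensional proper group scheme has genus one. -/
theorem genus_eq_one (C : Over (Spec (CommRingCat.of k))) [IsProper C.hom] [Smooth C.hom] [GrpObj C]
    [ConnectedSpace C.left] (hd : topologicalKrullDim C.left = 1) :
    letI : C.left.Over (Spec (CommRingCat.of k)) := ⟨C.hom⟩; Curv2.genus k C.left = 1 := by
  letI : C.left.Over (Spec (CommRingCat.of k)) := ⟨C.hom⟩
  haveI : GeometricallyConnected C.hom :=
    Groth.Agent.Rigid.geometricallyConnected_of_section C.hom η[C].left (Over.w η[C])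
  haveI := ClosedRep.GeomIntegral.geometricallyIntegral_of_smooth C.hom
  haveI : IsIntegral C.left := GeometricallyIntegral.isIntegral_of_subsingleton C.hom
  haveI : IsProper (C.left ↘ Spec (CommRingCat.of k)) := inferInstanceAs (IsProper C.hom)
  haveI : Smooth (C.left ↘ Spec (CommRingCat.of k)) := inferInstanceAs (Smooth C.hom)
  haveI : GeometricallyConnected (C.left ↘ Spec (CommRingCat.of k)) := inferInstanceAs (GeometricallyConnected C.hom)
  have h0 : CurveRR.h k (Coh.structureModule C.left) 0 = 1 := W7Cover.h0_of_geometricallyConnected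
  obtain ⟨φ⟩ := AVOmega.nonempty_omega_free C 1 (by rw [hd]; rfl)
  have h1 := (CurveOmega.omega_facts' k C.left hd h0).1
  have φ' : Omega.sheaf (C.left ↘ Spec (CommRingCat.of k)) ≅ FlatMod.freeMod C.left 1 := φ
  rw [CurveRR.h_eq_of_iso φ' 0, h_freeMod_one, h0] at h1
  exact h1.symm

end Groth.Agent.GenusOneGrp
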