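import Groth.Agent.PicCurve.Abel
import Groth.Agent.Intersect.Deg

/-!
A smooth proper curve of genus one with a rational point is an abelian variety.
-/

set_option autoImplicit false
set_option backward.isDefEq.respectTransparency false
set_option backward.isDefEq.respectTransparency.types false
set_option linter.style.haveILetI false
set_option linter.unusedSectionVars false
set_option maxHeartbeats 2000000

universe u

open CategoryTheory CategoryTheory.Limits AlgebraicGeometry TopologicalSpace Opposite
open PicF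
open scoped MonObj
open Groth.Agent.W7Cube (pull pull_pull pull_cls)
open Groth.Agent.PicCurve

attribute [local instance] Groth.Agent.W7Cube.law

noncomputable section

namespace Groth.Agent.GenusOneGrp

theorem exists_isGenericPoint_range {X Y : Scheme.{u}} (f : X ⟶ Y) [IsClosedImmersion f] [IrreducibleSpace X] :
    ∃ y : Y, IsGenericPoint y (Set.range f.base) := by
  refine ⟨f (genericPoint X), ?_⟩
  have h := (genericPoint_spec X).image f.continuous
  rwa [Set.image_univ, f.isClosedEmbedding.isClosed_range.closure_eq] at h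

/-- **A curve of genus one is an abelian variety with a given point as origin.** -/
theorem exists_iso_abelian {k : Type u} [Field k] (C : Over (Spec (CommRingCat.of k)))
    [IsProper C.hom] [Smooth C.hom] [GeometricallyIrreducible C.hom] [GeometricallyConnected C.hom] [IsIntegral C.left]
    (hd : topologicalKrullDim C.left = 1)
    (hg : letI : C.left.Over (Spec (CommRingCat.of k)) := ⟨C.hom⟩; Curv2.genus k C.left = 1)
    (P₀ : MonoidalCategoryStruct.tensorUnit (Over (Spec (CommRingCat.of k))) ⟶ C) :
    ∃ (A : Over (Spec (CommRingCat.of k))) (_ : GrpObj A) (e : A ≅ C), IsProper A.hom ∧ Smooth A.hom ∧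
      GeometricallyIntegral A.hom ∧ η[A] ≫ e.hom = P₀ := by
  let f := C.hom
  letI : C.left.Over (Spec (CommRingCat.of k)) := ⟨f⟩
  haveI := AlgEquivCurve.smoothOfRelativeDimension_one f hd
  let σ : Spec (CommRingCat.of k) ⟶ C.left := P₀.left
  have hσ : σ ≫ f = 𝟙 _ := Over.w P₀
  have hX : Curve.IsSmoothProperCurve k C.left f := ⟨‹_›, ‹_›, ‹_›, hd⟩
  have hdim : ∀ z, topologicalKrullDim ↥(f.fiber z) = 1 := fun z => (dim_fiber_spec f z).trans hd
  have hO := betti_structure_curve f hX σ hσ
  obtain ⟨W, ξ, hp, hs, hi, hξ1, hξ0, hξ⟩ := exists_degZero_any f hd σ hσ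
  haveI := hp
  haveI := hs
  haveI := hi
  haveI : GeometricallyReduced W.hom := Rigid.geometricallyReduced_of_smooth W.hom
  haveI hgi : GeometricallyIntegral W.hom := GeometricallyIntegral.of_geometricallyReduced_of_geometricallyIrreducible W.hom
  obtain ⟨G⟩ := exists_grpObj_degZero f σ hσ hdim hξ1 hξ0 hξ
  letI := G
  obtain ⟨Δ, hΔ, hΔu⟩ := Groth.Agent.S14845.result f
  let D := Over.mk f
  let cD := rigify f σ hσ D (cH f 1 D Δ * (baseCl f σ hσ D)⁻¹)
  have hcD : ∀ t, degC f D cD t = 0 := fun t => by
    rw [degC_rigify f hdim, degC_mul f hdim, degC_inv f hdim, baseCl, degC_divCl f hdim, cH, degC_divCl f hdim]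
    ring
  obtain ⟨a, ha, -⟩ := hξ D cD (rigify_mem f σ hσ D _) hcD
  -- the Abel map is a monomorphism
  obtain ⟨LΔ, hLΔ, hLc⟩ := PicGrp.exists_eq_cls (cH f 1 D Δ)
  have hinv : ClSub.IsInverseOf LΔ (ClSub.idealMod (pullback.diagonal f).ker) := by
    have h := isInverseOf_of_cls_eq hLΔ _ hLc.symm
    rwa [show Δ.1 = (pullback.diagonal f).ker from hΔ.trans rfl] at h
  have hg' : ∀ s, 1 ≤ CohIII.fiberRank f (Coh.structureModule C.left) 1 s := fun s => by
    rw [PicFam.fiberRank_eq_betti, (hO s).2]
    exact hg.ge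
  have hmono : Mono a.left := ⟨fun {U} b₁ b₂ hb => by
    have hw : b₂ ≫ f = b₁ ≫ f := by
      have h1 := congrArg (· ≫ W.hom) hb
      simp only [Category.assoc, Over.w a] at h1
      exact h1.symm
    let T : Over (Spec (CommRingCat.of k)) := Over.mk (b₁ ≫ f)
    let x : T ⟶ D := Over.homMk b₁
    let y : T ⟶ D := Over.homMk b₂ hw
    have hxy : x ≫ a = y ≫ a := Over.OverMorphism.ext hb
    have h := congrArg (fun q : T ⟶ W => pull (XTmap f q) ξ) hxy
    simp only [← S12404.XTmap_comp, ← pull_pull, ha, cD, pull_rigify, map_mul, map_inv, pull_baseCl] at h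
    obtain ⟨n, hn⟩ := eq_mul_base_of_rigify_eq f σ hσ h
    rw [mul_right_comm, mul_left_inj] at hn
    obtain ⟨N, hN, hNc⟩ := PicGrp.exists_eq_cls n
    have hN' := id hN
    choose V htV hV using hN'
    choose O hO' htO hOV using fun t => exists_isAffineOpen_mem_and_subset (x := t) (U := V t) (htV t)
    refine Scheme.Cover.hom_ext (T.left.openCoverOfIsOpenCover O
      (eq_top_iff.2 fun t _ => Opens.mem_iSup.2 ⟨t, htO t⟩)) _ _ fun t => ?_
    let T' := AbDual.ovr T (O t).ι
    haveI : IsAffine T'.left := hO' t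
    let m := AbDual.ovrHom T (O t).ι
    have hn1 : pull (O t).ι (PicGrp.cls N hN) = 1 := by
      have hle : O t ≤ V t := hOV t
      rw [← T.left.homOfLE_ι hle, ← pull_pull,
        show pull (V t).ι (PicGrp.cls N hN) = 1 from Subtype.ext (Quot.sound
          ⟨((Scheme.Modules.restrictFunctorIsoPullback (V t).ι).app N).symm ≪≫ (hV t).some⟩), map_one]
    have h2 : pull (XTmap f (m ≫ x)) (cH f 1 D Δ) = pull (XTmap f (m ≫ y)) (cH f 1 D Δ) := by
      rw [← S12404.XTmap_comp, ← S12404.XTmap_comp, ← pull_pull, hn, hNc, map_mul, pull_pull (XTmap f m) (XTproj f T),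
        XTmap_proj, ← pull_pull (XTproj f _) m.left]
      refine (congrArg (fun q => _ * pull _ q) hn1).trans ?_
      rw [map_one, mul_one, pull_pull]
    rw [hLc, pull_cls, pull_cls] at h2
    obtain ⟨i⟩ := (PicGrp.cls_eq_cls_iff _ _).1 h2
    exact congrArg CommaMorphism.left (AbelMap.eq_of_iso f hdim hg' LΔ hLΔ hinv (m ≫ x) (m ≫ y) i)⟩
  haveI := hmono
  haveI : IsProper a.left := by
    haveI : IsProper (a.left ≫ W.hom) := by rw [Over.w a]; exact inferInstanceAs (IsProper f)
    exact IsProper.of_comp a.left W.hom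
  haveI : IsClosedImmersion a.left := (IsClosedImmersion.iff_isProper_and_mono _).2 ⟨inferInstance, inferInstance⟩
  -- the Abel map is surjective
  have hg1 : Curv2.genus k C.left = 1 := hg
  obtain ⟨b, hb⟩ := exists_surjective f σ hσ hdim hξ1 hξ0 hξ 1
    (fun z => ⟨(hO z).1, (hO z).2.trans hg1⟩) (Over.mk f) Δ hΔu
  haveI := hb
  haveI : IsProper b.left := by
    haveI : IsProper (b.left ≫ W.hom) := by rw [Over.w b]; exact inferInstanceAs (IsProper f)
    exact IsProper.of_comp b.left W.hom
  letI : W.left.Over (Spec (CommRingCat.of k)) := ⟨W.hom⟩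
  haveI : IsIntegral W.left := GeometricallyIntegral.isIntegral_of_subsingleton W.hom
  haveI : Surjective a.left := ⟨fun y => by
    have hclo : IsClosed (Set.range a.left.base) := a.left.isClosedEmbedding.isClosed_range
    have hW : topologicalKrullDim W.left ≤ (1 : ℕ) := by
      have h1 := Intersect.dim_image_le b.left (T := Set.univ) isClosed_univ
      rw [Set.image_univ, Set.range_eq_univ.2 b.left.surjective,
        IsHomeomorph.topologicalKrullDim_eq _ (Homeomorph.Set.univ W.left).isHomeomorph] at h1
      refine h1.trans ?_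
      rw [IsHomeomorph.topologicalKrullDim_eq _ (Homeomorph.Set.univ (Over.mk f).left).isHomeomorph]
      exact hd.le
    have h2 : ((1 : ℕ) : WithBot ℕ∞) ≤ topologicalKrullDim (Set.range a.left.base) := by
      rw [← IsHomeomorph.topologicalKrullDim_eq _ a.left.isClosedEmbedding.isEmbedding.toHomeomorph.isHomeomorph]
      exact hd.ge
    haveI : IrreducibleSpace D.left := inferInstanceAs (IrreducibleSpace C.left)
    obtain ⟨x, hx⟩ := exists_isGenericPoint_range a.left
    have hx' : x = genericPoint W.left := (Intersect.eq_of_dim (ξ := x) ((genericPoint_spec W.left).specializes trivial)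
      ((topologicalKrullDim_subspace_le W.left _).trans hW) (le_antisymm ((topologicalKrullDim_subspace_le W.left _).trans hW)
        (by rw [show closure ({x} : Set W.left) = Set.range a.left.base from hx]; exact h2))).symm
    have : Set.range a.left.base = Set.univ := by
      rw [← hx, hx', genericPoint_spec]
    exact this.ge (Set.mem_univ y)⟩
  haveI : IsIso a.left := isIso_of_isClosedImmersion_of_surjective a.left
  haveI : IsIso (a : C ⟶ W) := by
    haveI : IsIso ((Over.forget _).map (a : C ⟶ W)) := ‹IsIso a.left›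
    exact isIso_of_reflects_iso _ (Over.forget _)
  obtain ⟨θ, hθ⟩ := exists_iso_translate (P₀ ≫ (a : C ⟶ W))
  refine ⟨W, G, (asIso (a : C ⟶ W) ≪≫ θ).symm, hp, hs, hgi, ?_⟩
  rw [← hθ]
  simp

end Groth.Agent.GenusOneGrp
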